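import Cfsg.Agent.Lib.POmegaField.MinusMain

/-!
# The statements on field automorphisms of `PΩ⁻`
-/

set_option autoImplicit false

namespace Cfsg.Agent.Lib.POmegaField

open QuadraticMap Matrix FieldDescent POmegaAut POmegaClass

variable {F : Type*} [Field F] [Fintype F] {m : ℕ} {a b : F}

/-- the inner-diagonal group of a presentation `φ` of the minus form -/
abbrev minusInd (m : ℕ) {F : Type*} [Field F] (a b : F) (φ : ((Fin m ⊕ Fin m) ⊕ Fin 2 → F) → F) :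
    Subgroup (MulAut (Cfsg.POmega F φ)) :=
  Cfsg.autSubgroupOf fun β => ∃ g : GL ((Fin m ⊕ Fin m) ⊕ Fin 2) F,
    g ∈ Cfsg.Geo.quadSimilarityGroup (F := F) φ ∧
    Cfsg.PreservesSingularClassesMinus m a b (g : Matrix _ _ F) ∧
    Cfsg.IsInducedBySemilinearPOmega φ g (RingEquiv.refl F) β

/-- a field automorphism of `PΩ⁻`, moved to a form with fixed coefficients -/
theorem exists_setup_minus (hm : 3 ≤ m) (hab : Classical.BinAniso a b)
    (x : MulAut (Cfsg.POmega F ⇑(Classical.minusForm m F a b))) (a' b' : F)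
    (φ' : ((Fin m ⊕ Fin m) ⊕ Fin 2 → F) → F) (hφ' : φ' = ⇑(Classical.minusForm m F a' b'))
    (ψ : Cfsg.POmega F ⇑(Classical.minusForm m F a b) ≃* Cfsg.POmega F φ') (σ : F ≃+* F)
    (hab' : Classical.BinAniso a' b') (ha : σ a' = a') (hb : σ b' = b')
    (hx : Cfsg.IsFieldAutPOmegaOf φ' σ ((ψ.symm.trans x).trans ψ))
    (T : GL ((Fin m ⊕ Fin m) ⊕ Fin 2) F)
    (hT : ∀ v, Classical.minusForm m F a b ((T : Matrix _ _ F) *ᵥ v) = Classical.minusForm m F a' b' v) :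
    (∃ g : GO (Classical.minusForm m F a' b'),
      (MulAut.congr (pomegaTransport T hT)).symm x = simAut g * fieldAut σ (sigmaForm_minus σ ha hb)) ∧
      orderOf x = orderOf σ := by
  subst hφ'
  rw [isFieldAutOf_iff σ (sigmaForm_minus σ ha hb)] at hx
  set θ := pomegaTransport T hT
  set x' := (MulAut.congr θ).symm x
  let α' : MulAut (Cfsg.POmega F ⇑(Classical.minusForm m F a' b')) := θ.trans ψ
  have h : α' * x' * α'⁻¹ = fieldAut σ (sigmaForm_minus σ ha hb) := by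
    rw [← hx]
    refine MulEquiv.ext fun y => ?_
    show ψ (θ (θ.symm (x (θ (θ.symm (ψ.symm y)))))) = ψ (x (ψ.symm y))
    rw [MulEquiv.apply_symm_apply, MulEquiv.apply_symm_apply]
  obtain ⟨hg, ho⟩ := exists_form_of_conj (setting_minus hab' hm) σ _ h
  exact ⟨hg, ((MulAut.congr θ).symm.orderOf_eq x).symm.trans ho⟩

theorem orderOf_iff_minus (hm : 3 ≤ m) (hab : Classical.BinAniso a b)
    (x δ : MulAut (Cfsg.POmega F ⇑(Classical.minusForm m F a b))) (a' b' : F)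
    (φ' : ((Fin m ⊕ Fin m) ⊕ Fin 2 → F) → F) (hφ' : φ' = ⇑(Classical.minusForm m F a' b'))
    (ψ : Cfsg.POmega F ⇑(Classical.minusForm m F a b) ≃* Cfsg.POmega F φ') (σ : F ≃+* F)
    (hab' : Classical.BinAniso a' b') (ha : σ a' = a') (hb : σ b' = b')
    (hx : Cfsg.IsFieldAutPOmegaOf φ' σ ((ψ.symm.trans x).trans ψ)) {r : ℕ} (hxr : orderOf x = r)
    (hδ : δ ∈ minusInd m a b ⇑(Classical.minusForm m F a b)) :
    orderOf (δ * x) = r ↔
      Cfsg.IsConjUnder (minusInd m a b ⇑(Classical.minusForm m F a b)) x (δ * x) := by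
  obtain ⟨T, hT⟩ := exists_minus_equiv (m := m) hab hab'
  obtain ⟨⟨g, hg⟩, ho⟩ := exists_setup_minus hm hab x a' b' φ' hφ' ψ σ hab' ha hb hx T hT
  haveI : Fintype ↥(fixedField σ) := Fintype.ofFinite _
  obtain ⟨j, hj⟩ := exists_isFixedField σ ↥(fixedField σ) (Nat.card_eq_fintype_card).symm
  obtain ⟨a₀, rfl⟩ := (hj a').1 ha
  obtain ⟨b₀, rfl⟩ := (hj b').1 hb
  obtain ⟨χ, -, -, -, -, hχ⟩ := exists_classHom (m := m) hab
  obtain ⟨χ', -, -, -, -, hχ'⟩ := exists_classHom (m := m) hab'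
  rw [minusInd, inndiag_minus hab (by omega) hχ] at hδ ⊢
  rw [← map_inndiag_transport hab hab' (by omega) hχ hχ' T hT] at hδ ⊢
  set Θ := MulAut.congr (pomegaTransport T hT)
  obtain ⟨δ', hδ', rfl⟩ := hδ
  obtain ⟨x', rfl⟩ := Θ.surjective x
  rw [MulEquiv.symm_apply_apply] at hg
  rw [MulEquiv.orderOf_eq] at hxr ho
  show orderOf (Θ δ' * Θ x') = r ↔ Cfsg.IsConjUnder _ (Θ x') (Θ δ' * Θ x')
  rw [← map_mul, MulEquiv.orderOf_eq, isConjUnder_map, ← hxr, ho]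
  exact orderOf_iff_isConjUnder (setting_minus hab' hm) _ hj (isRestriction_minus j a₀ b₀)
    (hasDescent_minus j hab') (hasFixedSupplement_minus hj hχ') ⟨g, hg⟩ ho hδ'

theorem centraliser_split_minus {p f : ℕ} [Fact p.Prime] (hF : Fintype.card F = p ^ f) (hm : 3 ≤ m)
    (hab : Classical.BinAniso a b)
    (x : MulAut (Cfsg.POmega F ⇑(Classical.minusForm m F a b))) (a' b' : F)
    (φ' : ((Fin m ⊕ Fin m) ⊕ Fin 2 → F) → F) (hφ' : φ' = ⇑(Classical.minusForm m F a' b'))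
    (ψ : Cfsg.POmega F ⇑(Classical.minusForm m F a b) ≃* Cfsg.POmega F φ') (σ : F ≃+* F)
    (hab' : Classical.BinAniso a' b') (ha : σ a' = a') (hb : σ b' = b')
    (hx : Cfsg.IsFieldAutPOmegaOf φ' σ ((ψ.symm.trans x).trans ψ)) {r : ℕ} (hxr : orderOf x = r)
    (F₀ : Type*) [Field F₀] [Fintype F₀] (hF₀ : Fintype.card F₀ = p ^ (f / r)) :
    Odd r ∧ r ∣ f ∧ (∃ a₀ b₀ : F₀, (∀ z₁ z₂ : F₀, z₁ ^ 2 + a₀ * z₁ * z₂ + b₀ * z₂ ^ 2 = 0 → z₁ = 0 ∧ z₂ = 0) ∧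
      ∀ φ₀, φ₀ = ⇑(Classical.minusForm m F₀ a₀ b₀) →
        Nonempty (↥(minusInd m a b ⇑(Classical.minusForm m F a b) ⊓ Subgroup.centralizer {x}) ≃*
          ↥(minusInd m a₀ b₀ φ₀))) ∧
      Cfsg.splitClassCount (minusInd m a b ⇑(Classical.minusForm m F a b))
        (Cfsg.Inn (Cfsg.POmega F ⇑(Classical.minusForm m F a b))) x = 1 := by
  obtain ⟨T, hT⟩ := exists_minus_equiv (m := m) hab hab'
  obtain ⟨⟨g, hg⟩, ho⟩ := exists_setup_minus hm hab x a' b' φ' hφ' ψ σ hab' ha hb hx T hT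
  subst hxr
  obtain ⟨hdvd, hfix⟩ := fixed_params hF ho.symm
  obtain ⟨j, hj⟩ := exists_isFixedField σ F₀ (hF₀.trans hfix.symm)
  obtain ⟨a₀, rfl⟩ := (hj a').1 ha
  obtain ⟨b₀, rfl⟩ := (hj b').1 hb
  have h0 := binAniso_restrict j hab'
  obtain ⟨χ, -, -, -, -, hχ⟩ := exists_classHom (m := m) hab
  obtain ⟨χ', -, -, -, -, hχ'⟩ := exists_classHom (m := m) hab'
  obtain ⟨χ₀, -, -, -, -, hχ₀⟩ := exists_classHom (m := m) h0
  have S' := setting_minus hab' hm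
  have S₀ := setting_minus h0 hm
  obtain ⟨k, hk, hxk⟩ := exists_conj_mem S' _ hj (isRestriction_minus j a₀ b₀) (hasDescent_minus j hab')
    (hasFixedSupplement_minus hj hχ') g
    (by rw [← hg, ← map_pow, ← ho, pow_orderOf_eq_one, map_one])
  set Θ := MulAut.congr (pomegaTransport T hT) with hΘ
  obtain ⟨x', rfl⟩ := Θ.surjective x
  rw [MulEquiv.symm_apply_apply] at hg
  rw [hxk] at hg
  subst hg
  have hmem : simAut k ∈ χ'.ker.map simAut := ⟨k, hk, rfl⟩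
  obtain ⟨e0⟩ := nonempty_centraliser_map Θ (χ'.ker.map simAut)
    (simAut k * fieldAut σ (sigmaForm_minus σ ha hb) * (simAut k)⁻¹)
  obtain ⟨e1⟩ := nonempty_centraliser_conj hmem (fieldAut σ (sigmaForm_minus (m := m) σ ha hb))
  obtain ⟨e2⟩ := nonempty_centraliser_fieldAut S' S₀ (sigmaForm_minus σ ha hb) hj (isRestriction_minus j a₀ b₀)
    (D := χ'.ker) (D₀ := χ₀.ker) (fun u => by
      rw [MonoidHom.mem_ker, MonoidHom.mem_ker, hχ₀.liftSim_eq j h0 (by omega) hχ' u])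
    (fun c => hχ'.scalarSim hab' (by omega) c)
  refine ⟨?_, hdvd, ⟨a₀, b₀, h0, ?_⟩, ?_⟩
  · rw [ho]; exact odd_orderOf_minus hj hab'
  · rintro _ rfl
    rw [minusInd, minusInd, inndiag_minus hab (by omega) hχ, inndiag_minus h0 (by omega) hχ₀,
      ← map_inndiag_transport hab hab' (by omega) hχ hχ' T hT, ← hΘ]
    exact ⟨e0.symm.trans (e1.symm.trans e2)⟩
  · rw [minusInd, inndiag_minus hab (by omega) hχ, ← map_inndiag_transport hab hab' (by omega) hχ hχ' T hT,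
      ← inn_map (pomegaTransport T hT), ← hΘ, splitClassCount_map, splitClassCount_of_mem hmem]
    exact splitClassCount_minus hm hj hab' hχ'

theorem orderOf_iff_minus_of_eq (hm : 3 ≤ m) (hab : Classical.BinAniso a b)
    (φ : ((Fin m ⊕ Fin m) ⊕ Fin 2 → F) → F) (hφ : φ = ⇑(Classical.minusForm m F a b))
    (x δ : MulAut (Cfsg.POmega F φ)) (a' b' : F)
    (φ' : ((Fin m ⊕ Fin m) ⊕ Fin 2 → F) → F) (hφ' : φ' = ⇑(Classical.minusForm m F a' b'))
    (ψ : Cfsg.POmega F φ ≃* Cfsg.POmega F φ') (σ : F ≃+* F)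
    (hab' : Classical.BinAniso a' b') (ha : σ a' = a') (hb : σ b' = b')
    (hx : Cfsg.IsFieldAutPOmegaOf φ' σ ((ψ.symm.trans x).trans ψ)) {r : ℕ} (hxr : orderOf x = r)
    (hδ : δ ∈ minusInd m a b φ) :
    orderOf (δ * x) = r ↔ Cfsg.IsConjUnder (minusInd m a b φ) x (δ * x) := by
  subst hφ
  exact orderOf_iff_minus hm hab x δ a' b' φ' hφ' ψ σ hab' ha hb hx hxr hδ

theorem centraliser_split_minus_of_eq {p f : ℕ} [Fact p.Prime] (hF : Fintype.card F = p ^ f) (hm : 3 ≤ m)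
    (hab : Classical.BinAniso a b) (φ : ((Fin m ⊕ Fin m) ⊕ Fin 2 → F) → F)
    (hφ : φ = ⇑(Classical.minusForm m F a b)) (x : MulAut (Cfsg.POmega F φ)) (a' b' : F)
    (φ' : ((Fin m ⊕ Fin m) ⊕ Fin 2 → F) → F) (hφ' : φ' = ⇑(Classical.minusForm m F a' b'))
    (ψ : Cfsg.POmega F φ ≃* Cfsg.POmega F φ') (σ : F ≃+* F)
    (hab' : Classical.BinAniso a' b') (ha : σ a' = a') (hb : σ b' = b')
    (hx : Cfsg.IsFieldAutPOmegaOf φ' σ ((ψ.symm.trans x).trans ψ)) {r : ℕ} (hxr : orderOf x = r)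
    (F₀ : Type*) [Field F₀] [Fintype F₀] (hF₀ : Fintype.card F₀ = p ^ (f / r)) :
    Odd r ∧ r ∣ f ∧ (∃ a₀ b₀ : F₀, (∀ z₁ z₂ : F₀, z₁ ^ 2 + a₀ * z₁ * z₂ + b₀ * z₂ ^ 2 = 0 → z₁ = 0 ∧ z₂ = 0) ∧
      ∀ φ₀, φ₀ = ⇑(Classical.minusForm m F₀ a₀ b₀) →
        Nonempty (↥(minusInd m a b φ ⊓ Subgroup.centralizer {x}) ≃* ↥(minusInd m a₀ b₀ φ₀))) ∧
      Cfsg.splitClassCount (minusInd m a b φ) (Cfsg.Inn (Cfsg.POmega F φ)) x = 1 := by
  subst hφ
  exact centraliser_split_minus hF hm hab x a' b' φ' hφ' ψ σ hab' ha hb hx hxr F₀ hF₀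

end Cfsg.Agent.Lib.POmegaField
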