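import Cfsg.Agent.Lib.POmegaField.Odd

/-!
# The statements on field automorphisms of `Ω_{2m+1}(q)`
-/

set_option autoImplicit false

namespace Cfsg.Agent.Lib.POmegaField

open QuadraticMap Matrix FieldDescent POmegaAut

variable {F : Type*} [Field F] [Fintype F] {m : ℕ}

local notation "Q" => Classical.oddQuadForm m F

theorem exists_setup_odd (hm : 3 ≤ m) (h2 : (2 : F) ≠ 0) {x : MulAut (Cfsg.POmega F ⇑(Q))}
    (hx : Cfsg.IsFieldAutClassPOmega ⇑(Q) x) :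
    ∃ σ : F ≃+* F, (∃ g : GO (Q), x = simAut g * fieldAut σ (sigmaForm_odd σ)) ∧ orderOf x = orderOf σ := by
  obtain ⟨α, φ, σ, -, hφ, hαx⟩ := hx
  rw [isFieldAutOf_iff σ (sigmaForm_odd σ)] at hφ
  subst hφ
  exact ⟨σ, exists_form_of_conj (setting_odd h2 hm) σ (sigmaForm_odd σ) hαx⟩

theorem orderOf_iff_odd (hodd : Odd (Fintype.card F)) (hm : 3 ≤ m) (x δ : MulAut (Cfsg.POmega F ⇑(Q)))
    (hx : Cfsg.IsFieldAutClassPOmega ⇑(Q) x) {r : ℕ} (hxr : orderOf x = r)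
    (hδ : δ ∈ Cfsg.autSubgroupOf fun β => Cfsg.IsSimilarityInducedAutPOmega ⇑(Q) β) :
    orderOf (δ * x) = r ↔
      Cfsg.IsConjUnder (Cfsg.autSubgroupOf fun β => Cfsg.IsSimilarityInducedAutPOmega ⇑(Q) β) x (δ * x) := by
  have h2 : (2 : F) ≠ 0 := Classical.two_ne_zero_of_odd_card hodd
  obtain ⟨σ, hg, ho⟩ := exists_setup_odd hm h2 hx
  subst hxr
  haveI : Fintype ↥(fixedField σ) := Fintype.ofFinite _
  obtain ⟨j, hj⟩ := exists_isFixedField σ ↥(fixedField σ) (Nat.card_eq_fintype_card).symm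
  have h20 : (2 : ↥(fixedField σ)) ≠ 0 := fun e => h2 (by rw [← map_ofNat j 2, e, map_zero])
  rw [inndiag_odd] at hδ ⊢
  rw [ho]
  exact orderOf_iff_isConjUnder (setting_odd h2 hm) _ hj (isRestriction_odd j)
    (hasDescent_odd (setting_odd h20 hm) j) (hasFixedSupplement_top σ) hg ho hδ

theorem centraliser_split_odd {p f : ℕ} [Fact p.Prime] (hF : Fintype.card F = p ^ f) (hodd : Odd (Fintype.card F))
    (hm : 3 ≤ m) (x : MulAut (Cfsg.POmega F ⇑(Q))) (hx : Cfsg.IsFieldAutClassPOmega ⇑(Q) x) {r : ℕ}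
    (hxr : orderOf x = r) (F₀ : Type*) [Field F₀] [Fintype F₀] (hF₀ : Fintype.card F₀ = p ^ (f / r)) :
    r ∣ f ∧ Nonempty (↥((Cfsg.autSubgroupOf fun β => Cfsg.IsSimilarityInducedAutPOmega ⇑(Q) β) ⊓
        Subgroup.centralizer {x}) ≃*
      ↥(Cfsg.autSubgroupOf fun β =>
        Cfsg.IsSimilarityInducedAutPOmega ⇑(Classical.oddQuadForm m F₀) β)) ∧
    (Odd r → Cfsg.splitClassCount (Cfsg.autSubgroupOf fun β => Cfsg.IsSimilarityInducedAutPOmega ⇑(Q) β)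
      (Cfsg.Inn (Cfsg.POmega F ⇑(Q))) x = 1) ∧
    (r = 2 → Cfsg.splitClassCount (Cfsg.autSubgroupOf fun β => Cfsg.IsSimilarityInducedAutPOmega ⇑(Q) β)
      (Cfsg.Inn (Cfsg.POmega F ⇑(Q))) x = 2) := by
  have h2 : (2 : F) ≠ 0 := Classical.two_ne_zero_of_odd_card hodd
  obtain ⟨σ, ⟨g, hg⟩, ho⟩ := exists_setup_odd hm h2 hx
  subst hxr
  obtain ⟨hdvd, hfix⟩ := fixed_params hF ho.symm
  obtain ⟨j, hj⟩ := exists_isFixedField σ F₀ (hF₀.trans hfix.symm)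
  have h20 : (2 : F₀) ≠ 0 := fun e => h2 (by rw [← map_ofNat j 2, e, map_zero])
  have S := setting_odd h2 hm
  have S₀ := setting_odd h20 hm
  obtain ⟨k, hk, hxk⟩ := exists_conj_mem S (sigmaForm_odd σ) hj (isRestriction_odd j) (hasDescent_odd S₀ j)
    (hasFixedSupplement_top σ) g (by rw [← hg, ← ho]; exact pow_orderOf_eq_one x)
  have hmem : simAut k ∈ (⊤ : Subgroup ↥(GO (Q))).map simAut := ⟨k, hk, rfl⟩
  obtain ⟨e1⟩ := nonempty_centraliser_conj hmem (fieldAut σ (sigmaForm_odd σ))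
  obtain ⟨e2⟩ := nonempty_centraliser_fieldAut S S₀ (sigmaForm_odd σ) hj (isRestriction_odd j)
    (D := (⊤ : Subgroup ↥(GO (Q)))) (D₀ := ⊤) (fun _ => iff_of_true (Subgroup.mem_top _) (Subgroup.mem_top _))
    (fun _ => Subgroup.mem_top _)
  obtain ⟨hs1, hs2⟩ := splitClassCount_odd_fieldAut h2 hm hj
  rw [inndiag_odd, inndiag_odd]
  rw [hg] at ho hdvd ⊢
  rw [hxk] at ho hdvd ⊢
  refine ⟨hdvd, ⟨e1.symm.trans e2⟩, ?_, ?_⟩ <;> intro h <;> rw [splitClassCount_of_mem hmem]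
  · exact hs1 (ho ▸ h)
  · exact hs2 (ho ▸ h)

/-- `orderOf_iff_odd` for any presentation of the form -/
theorem orderOf_iff_odd_of_eq (hodd : Odd (Fintype.card F)) (hm : 3 ≤ m)
    (φ : (Unit ⊕ (Fin m ⊕ Fin m) → F) → F) (hφ : φ = ⇑(Q)) (x δ : MulAut (Cfsg.POmega F φ))
    (hx : Cfsg.IsFieldAutClassPOmega φ x) {r : ℕ} (hxr : orderOf x = r)
    (hδ : δ ∈ Cfsg.autSubgroupOf fun β => Cfsg.IsSimilarityInducedAutPOmega φ β) :
    orderOf (δ * x) = r ↔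
      Cfsg.IsConjUnder (Cfsg.autSubgroupOf fun β => Cfsg.IsSimilarityInducedAutPOmega φ β) x (δ * x) := by
  subst hφ
  exact orderOf_iff_odd hodd hm x δ hx hxr hδ

/-- `centraliser_split_odd` for any presentation of the forms -/
theorem centraliser_split_odd_of_eq {p f : ℕ} [Fact p.Prime] (hF : Fintype.card F = p ^ f)
    (hodd : Odd (Fintype.card F)) (hm : 3 ≤ m) (φ : (Unit ⊕ (Fin m ⊕ Fin m) → F) → F) (hφ : φ = ⇑(Q))
    (x : MulAut (Cfsg.POmega F φ)) (hx : Cfsg.IsFieldAutClassPOmega φ x) {r : ℕ} (hxr : orderOf x = r)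
    (F₀ : Type*) [Field F₀] [Fintype F₀] (hF₀ : Fintype.card F₀ = p ^ (f / r))
    (φ₀ : (Unit ⊕ (Fin m ⊕ Fin m) → F₀) → F₀) (hφ₀ : φ₀ = ⇑(Classical.oddQuadForm m F₀)) :
    r ∣ f ∧ Nonempty (↥((Cfsg.autSubgroupOf fun β => Cfsg.IsSimilarityInducedAutPOmega φ β) ⊓
        Subgroup.centralizer {x}) ≃*
      ↥(Cfsg.autSubgroupOf fun β => Cfsg.IsSimilarityInducedAutPOmega φ₀ β)) ∧
    (Odd r → Cfsg.splitClassCount (Cfsg.autSubgroupOf fun β => Cfsg.IsSimilarityInducedAutPOmega φ β)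
      (Cfsg.Inn (Cfsg.POmega F φ)) x = 1) ∧
    (r = 2 → Cfsg.splitClassCount (Cfsg.autSubgroupOf fun β => Cfsg.IsSimilarityInducedAutPOmega φ β)
      (Cfsg.Inn (Cfsg.POmega F φ)) x = 2) := by
  subst hφ hφ₀
  exact centraliser_split_odd hF hodd hm x hx hxr F₀ hF₀

end Cfsg.Agent.Lib.POmegaField
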